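import Groth.Agent.EGA43.PdFlat.Tor
import Groth.Agent.EGA43.FlatSyzygy
import Mathlib.Algebra.Category.ModuleCat.Monoidal.Closed

/-!
# Syzygies of modules flat over the base
-/

set_option autoImplicit false
set_option backward.isDefEq.respectTransparency false

universe u

open TensorProduct CategoryTheory CategoryTheory.Limits Function

namespace Groth.Agent.EGA43.PdFlat

open Groth.Agent

variable {A B M P : Type u} [CommRing A] [CommRing B] [Algebra A B] [AddCommGroup M] [Module B M]
  [Module A M] [IsScalarTower A B M] [AddCommGroup P] [Module B P] [Module A P]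
  [IsScalarTower A B P]

theorem flat_of_submodule_of_flat_quotient
    [Module.Flat A P] [Module.Flat A M] (f : P →ₗ[B] M) (hf : Surjective f) :
    Module.Flat A (LinearMap.ker f) := by
  rw [Module.Flat.iff_lTensor_preserves_injective_linearMap]
  intro X Y _ _ _ _ i hi
  let j : LinearMap.ker f →ₗ[A] P := (LinearMap.ker f).subtype.restrictScalars A
  have hj : ∀ (Z : Type u) [AddCommGroup Z] [Module A Z], Injective (j.rTensor Z) := by
    intro Z _ _
    exact (LinearMap.lTensor_inj_iff_rTensor_inj Z j).1
      (LinearMap.lTensor_injective_of_exact_of_flat (f.restrictScalars A) hf j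
        (Submodule.injective_subtype _) (LinearMap.exact_subtype_ker_map f) Z)
  have h2 : Injective (i.lTensor P ∘ j.rTensor X) :=
    (Module.Flat.lTensor_preserves_injective_linearMap i hi).comp (hj X)
  rw [← LinearMap.coe_comp, LinearMap.lTensor_comp_rTensor, ← LinearMap.rTensor_comp_lTensor,
    LinearMap.coe_comp] at h2
  exact h2.of_comp

/-- A finite free cover with finitely presented, `A`-flat kernel. -/
theorem exists_cover [Algebra.FinitePresentation A B] [Module.Flat A B]
    [Module.FinitePresentation B M] [Module.Flat A M] :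
    ∃ (k : ℕ) (f : (Fin k → B) →ₗ[B] M), Surjective f ∧
      Module.FinitePresentation B (LinearMap.ker f) ∧ Module.Flat A (LinearMap.ker f) := by
  obtain ⟨k, f, hf⟩ := Module.Finite.exists_fin' B M
  have : Module.Flat A (Fin k → B) := Module.Flat.trans A B (Fin k → B)
  exact ⟨k, f, hf, FlatSyzygy.finitePresentation_ker (A := A) f hf,
    flat_of_submodule_of_flat_quotient f hf⟩

theorem pdLE_of_dim [Algebra.FinitePresentation A B] [Module.Flat A B] :
    ∀ (n : ℕ) {M : Type u} [AddCommGroup M] [Module B M] [Module A M] [IsScalarTower A B M]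
      [Module.FinitePresentation B M] [Module.Flat A M],
      (∀ (N : Type u) [AddCommGroup N] [Module B N], Tor15.Dim (R := B) n M N) →
      CommAlg6.PdLE B M n := by
  intro n
  induction n with
  | zero =>
    intro M _ _ _ _ _ _ h
    haveI := Tor15.flat_of_dim_zero h
    exact CommAlg6.pdLE_zero_iff.2 Module.Flat.projective_of_finitePresentation
  | succ n ih =>
    intro M _ _ _ _ _ _ h
    obtain ⟨k, f, hf, hfp, hflat⟩ := exists_cover (A := A) (B := B) (M := M)
    rw [CommAlg6.pdLE_succ_iff f hf]
    exact ih fun N _ _ => Tor15.dim_shift n (LinearMap.ker f).subtype f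
      (LinearMap.exact_subtype_ker_map f) hf (Submodule.injective_subtype _) (h N)

theorem projectiveDimension_eq_torDim [Algebra.FinitePresentation A B] [Module.Flat A B]
    [Module.FinitePresentation B M] [Module.Flat A M] :
    projectiveDimension (ModuleCat.of B M) =
      sInf {n : WithBot ℕ∞ | ∀ i : ℕ, n < i → ∀ N : ModuleCat.{u} B,
        Limits.IsZero (((Tor (ModuleCat.{u} B) i).obj (ModuleCat.of B M)).obj N)} := by
  refine le_antisymm (le_sInf fun c hc => ?_) (sInf_le fun i hi N => ?_)
  · have hpd : ∀ k : ℕ, (c : WithBot ℕ∞) < ((k + 1 : ℕ) : WithBot ℕ∞) →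
        projectiveDimension (ModuleCat.of B M) ≤ k := fun k hk => by
      rw [CommAlg6.projectiveDimension_le_iff_pdLE]
      exact pdLE_of_dim (A := A) k fun N _ _ =>
        dim_of_isZero_tor N (hc (k + 1) hk (ModuleCat.of B N))
    induction c with
    | bot =>
      rw [le_bot_iff, CommAlg6.projectiveDimension_eq_bot_iff_subsingleton]
      let F₁ := (MonoidalCategory.tensoringLeft (ModuleCat.{u} B)).obj (ModuleCat.of B M)
      have : PreservesFiniteColimits F₁ :=
        inferInstanceAs (PreservesFiniteColimits (MonoidalCategory.tensorLeft (ModuleCat.of B M)))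
      haveI : Projective (ModuleCat.of B B) :=
        (IsProjective.iff_projective B).1 inferInstance
      have h := hc 0 (WithBot.bot_lt_coe 0) (ModuleCat.of B B)
      change IsZero ((F₁.leftDerived 0).obj (ModuleCat.of B B)) at h
      have h' : IsZero (F₁.obj (ModuleCat.of B B)) :=
        h.of_iso (F₁.leftDerivedZeroIsoSelf.app (ModuleCat.of B B)).symm
      have : Subsingleton (M ⊗[B] B) := ModuleCat.subsingleton_of_isZero h'
      exact (TensorProduct.rid B M).symm.toEquiv.subsingleton
    | coe c =>
      induction c with
      | top => exact le_top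
      | coe n => exact hpd n (by norm_cast; omega)
  · cases i with
    | zero =>
      have h0 : projectiveDimension (ModuleCat.of B M) = ⊥ := (WithBot.lt_zero_iff_eq_bot _).1 hi
      rw [CommAlg6.projectiveDimension_eq_bot_iff_subsingleton] at h0
      let F₁ := (MonoidalCategory.tensoringLeft (ModuleCat.{u} B)).obj (ModuleCat.of B M)
      have : PreservesFiniteColimits F₁ :=
        inferInstanceAs (PreservesFiniteColimits (MonoidalCategory.tensorLeft (ModuleCat.of B M)))
      change IsZero ((F₁.leftDerived 0).obj N)
      refine IsZero.of_iso ?_ (F₁.leftDerivedZeroIsoSelf.app N)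
      exact @ModuleCat.isZero_of_subsingleton _ _ _
        (inferInstanceAs (Subsingleton (M ⊗[B] N)))
    | succ k =>
      refine isZero_tor_of_pdLE ?_ N
      rw [← CommAlg6.projectiveDimension_le_iff_pdLE]
      exact ENat.WithBot.lt_add_one_iff.1 (by exact_mod_cast hi)

end Groth.Agent.EGA43.PdFlat
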