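import Groth.Agent.Tor15.TorDim
import Groth.Agent.CommAlg6.PdBaseChange
import Mathlib.CategoryTheory.Abelian.LeftDerived

/-!
# Tor vanishing and projective dimension

`Tor` resolves the second variable, so vanishing of `Tor_{k+1}(M, -)` is compared with `Tor₁` of
`M` against `k`-th syzygies.
-/

set_option autoImplicit false
set_option backward.isDefEq.respectTransparency false

universe u

open TensorProduct CategoryTheory CategoryTheory.Limits Function

namespace Groth.Agent.EGA43.PdFlat

open Groth.Agent

variable {R : Type u} [CommRing R]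

/-- `L` is a `k`-th flat syzygy of some module. -/
def Syz : ℕ → ∀ (L : Type u) [AddCommGroup L] [Module R L], Prop
  | 0, _, _, _ => True
  | k + 1, L, _, _ => ∃ (L' P : Type u) (_ : AddCommGroup L') (_ : Module R L')
      (_ : AddCommGroup P) (_ : Module R P) (_ : Module.Flat R P) (i : L →ₗ[R] P) (p : P →ₗ[R] L'),
      Exact i p ∧ Surjective p ∧ Injective i ∧ Syz k L'

theorem torVanish_of_pdLE : ∀ (k : ℕ) {M : Type u} [AddCommGroup M] [Module R M],
    CommAlg6.PdLE R M k → ∀ (L : Type u) [AddCommGroup L] [Module R L],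
      Syz (R := R) k L → FlatCrit.TorVanish R L M := by
  intro k
  induction k with
  | zero =>
    intro M _ _ h L _ _ _
    haveI := CommAlg6.pdLE_zero_iff.1 h
    exact FlatCrit.torVanish_of_projective
  | succ k ih =>
    intro M _ _ h L _ _ hL
    obtain ⟨L', P, _, _, _, _, _, i, p, hip, hp, hi, hL'⟩ := hL
    let f : (M →₀ R) →ₗ[R] M := Finsupp.linearCombination R id
    have hf : Surjective f := fun m => ⟨Finsupp.single m 1, by simp [f]⟩
    exact Tor15.torVanish_shift hip hp hi (LinearMap.exact_subtype_ker_map f) hf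
      (Submodule.injective_subtype _)
      (Tor15.torVanish_symm (ih ((CommAlg6.pdLE_succ_iff f hf k).1 h) L' hL'))

/-- The data of a projective resolution used below. -/
theorem exists_syzygy_data (M N : Type u) [AddCommGroup M] [Module R M] [AddCommGroup N]
    [Module R N] :
    ∃ (F : ℕ → Type u) (_ : ∀ m, AddCommGroup (F m)) (_ : ∀ m, Module R (F m))
      (_ : ∀ m, Module.Flat R (F m))
      (d : ∀ m, F (m + 1) →ₗ[R] F m) (q : F 0 →ₗ[R] N),
      Surjective q ∧ LinearMap.range (d 0) = LinearMap.ker q ∧
      (∀ m, LinearMap.range (d (m + 1)) = LinearMap.ker (d m)) ∧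
      (∀ k, IsZero (((Tor (ModuleCat.{u} R) (k + 2)).obj (ModuleCat.of R M)).obj (ModuleCat.of R N))
        ↔ LinearMap.range ((d (k + 2)).lTensor M) = LinearMap.ker ((d (k + 1)).lTensor M)) := by
  let Pr := projectiveResolution (ModuleCat.of R N)
  let F₁ := (MonoidalCategory.tensoringLeft (ModuleCat.{u} R)).obj (ModuleCat.of R M)
  refine ⟨fun m => Pr.complex.X m, fun m => inferInstance, fun m => inferInstance, fun m => ?_,
    fun m => (Pr.complex.d (m + 1) m).hom, (Pr.π.f 0).hom, ?_, ?_, fun m => ?_, fun k => ?_⟩
  · have : Module.Projective R (Pr.complex.X m) :=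
      (IsProjective.iff_projective _).2 (Pr.projective m)
    infer_instance
  · exact (ModuleCat.epi_iff_surjective (Pr.π.f 0)).1 inferInstance
  · exact (ShortComplex.exact_of_g_is_cokernel (ShortComplex.mk _ _ Pr.complex_d_comp_π_f_zero)
      Pr.isColimitCokernelCofork).moduleCat_range_eq_ker
  · exact (Pr.exact_succ m).moduleCat_range_eq_ker
  · have e := Pr.isoLeftDerivedObj F₁ (k + 2)
    rw [show ((Tor (ModuleCat.{u} R) (k + 2)).obj (ModuleCat.of R M)).obj (ModuleCat.of R N) =
        (F₁.leftDerived (k + 2)).obj (ModuleCat.of R N) from rfl, Iso.isZero_iff e,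
      HomologicalComplex.homologyFunctor_obj, ← HomologicalComplex.exactAt_iff_isZero_homology,
      HomologicalComplex.exactAt_iff' _ (k + 3) (k + 2) (k + 1) (by simp) (by simp),
      ShortComplex.moduleCat_exact_iff_range_eq_ker]
    rfl

theorem torVanish_iff_exact {M F₂ F₁ F₀ : Type u} [AddCommGroup M] [Module R M]
    [AddCommGroup F₂] [Module R F₂] [AddCommGroup F₁] [Module R F₁] [AddCommGroup F₀] [Module R F₀]
    {F₃ : Type u} [AddCommGroup F₃] [Module R F₃]
    [Module.Flat R F₂] [Module.Flat R F₁]
    (d₃ : F₃ →ₗ[R] F₂) (d₂ : F₂ →ₗ[R] F₁) (d₁ : F₁ →ₗ[R] F₀)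
    (h32 : LinearMap.range d₃ = LinearMap.ker d₂) (h21 : LinearMap.range d₂ = LinearMap.ker d₁) :
    FlatCrit.TorVanish R M (LinearMap.range d₁) ↔
      LinearMap.range (d₃.lTensor M) = LinearMap.ker (d₂.lTensor M) := by
  have hpres : Exact (LinearMap.range d₂).subtype d₁.rangeRestrict := by
    rw [LinearMap.exact_iff, LinearMap.ker_rangeRestrict, Submodule.range_subtype, h21]
  have hex : Exact d₃ d₂.rangeRestrict := by
    rw [LinearMap.exact_iff, LinearMap.ker_rangeRestrict, h32]
  have hker : LinearMap.range (d₃.lTensor M) = LinearMap.ker (d₂.rangeRestrict.lTensor M) :=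
    ((lTensor_exact M hex d₂.surjective_rangeRestrict).linearMap_ker_eq).symm
  have key : Injective ((LinearMap.range d₂).subtype.lTensor M) ↔
      LinearMap.range (d₃.lTensor M) = LinearMap.ker (d₂.lTensor M) := by
    rw [hker, show d₂.lTensor M =
        (LinearMap.range d₂).subtype.lTensor M ∘ₗ d₂.rangeRestrict.lTensor M from by
      rw [← LinearMap.lTensor_comp]; rfl, LinearMap.ker_comp]
    constructor
    · intro h
      rw [LinearMap.ker_eq_bot.2 h, Submodule.comap_bot]
    · intro h
      rw [← LinearMap.ker_eq_bot, eq_bot_iff]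
      intro x hx
      obtain ⟨y, rfl⟩ := LinearMap.lTensor_surjective M d₂.surjective_rangeRestrict x
      exact h.ge hx
  rw [← key, LinearMap.lTensor_inj_iff_rTensor_inj]
  exact ⟨fun h => h _ _ hpres d₁.surjective_rangeRestrict (Submodule.injective_subtype _),
    fun h => FlatCrit.TorVanish.of_presentation _ _ hpres d₁.surjective_rangeRestrict
      Tor15.torVanish_of_flat h⟩

theorem isZero_tor_of_pdLE {k : ℕ} {M : Type u} [AddCommGroup M] [Module R M]
    (h : CommAlg6.PdLE R M k) (N : Type u) [AddCommGroup N] [Module R N] :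
    IsZero (((Tor (ModuleCat.{u} R) (k + 1)).obj (ModuleCat.of R M)).obj (ModuleCat.of R N)) := by
  cases k with
  | zero => exact (CAlgH3.isZero_tor_one_iff M N).2 (torVanish_of_pdLE 0 h N trivial)
  | succ k =>
    obtain ⟨F, _, _, hF, d, q, hq, h0, hd, hT⟩ := exists_syzygy_data (R := R) M N
    have hs : ∀ m, Syz (R := R) (m + 1) (LinearMap.range (d m)) := by
      intro m
      induction m with
      | zero =>
        exact ⟨N, F 0, inferInstance, inferInstance, inferInstance, inferInstance, hF 0,
          (LinearMap.range (d 0)).subtype, q,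
          by rw [LinearMap.exact_iff, Submodule.range_subtype, h0], hq,
          Submodule.injective_subtype _, trivial⟩
      | succ m ih =>
        exact ⟨_, F (m + 1), inferInstance, inferInstance, inferInstance, inferInstance,
          hF (m + 1), (LinearMap.range (d (m + 1))).subtype, (d m).rangeRestrict,
          by rw [LinearMap.exact_iff, LinearMap.ker_rangeRestrict, Submodule.range_subtype, hd],
          (d m).surjective_rangeRestrict, Submodule.injective_subtype _, ih⟩
    exact (hT k).2 ((torVanish_iff_exact (d (k + 2)) (d (k + 1)) (d k) (hd (k + 1)) (hd k)).1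
      (Tor15.torVanish_symm (torVanish_of_pdLE (k + 1) h _ (hs k))))

theorem dim_of_isZero_tor {k : ℕ} {M : Type u} [AddCommGroup M] [Module R M] (N : Type u)
    [AddCommGroup N] [Module R N]
    (h : IsZero (((Tor (ModuleCat.{u} R) (k + 1)).obj (ModuleCat.of R M)).obj (ModuleCat.of R N))) :
    Tor15.Dim (R := R) k M N := by
  cases k with
  | zero => exact (CAlgH3.isZero_tor_one_iff M N).1 h
  | succ k =>
    obtain ⟨F, _, _, hF, d, q, hq, h0, hd, hT⟩ := exists_syzygy_data (R := R) M N
    have base : Tor15.Dim (R := R) 0 M (LinearMap.range (d k)) :=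
      Tor15.torVanish_symm
        ((torVanish_iff_exact (d (k + 2)) (d (k + 1)) (d k) (hd (k + 1)) (hd k)).2 ((hT k).1 h))
    have key : ∀ i m, m + i = k → Tor15.Dim (R := R) i M (LinearMap.range (d m)) := by
      intro i
      induction i with
      | zero => intro m hm; obtain rfl : m = k := hm; exact base
      | succ i ih =>
        intro m hm
        exact ⟨_, _, inferInstance, inferInstance, inferInstance, inferInstance, hF (m + 1),
          (LinearMap.range (d (m + 1))).subtype, (d m).rangeRestrict,
          by rw [LinearMap.exact_iff, LinearMap.ker_rangeRestrict, Submodule.range_subtype, hd],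
          (d m).surjective_rangeRestrict, Submodule.injective_subtype _, ih (m + 1) (by lia)⟩
    exact ⟨_, F 0, inferInstance, inferInstance, inferInstance, inferInstance, hF 0,
      (LinearMap.range (d 0)).subtype, q, by rw [LinearMap.exact_iff, Submodule.range_subtype, h0],
      hq, Submodule.injective_subtype _, key k 0 (zero_add k)⟩

end Groth.Agent.EGA43.PdFlat
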