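import Groth.Agent.EGA43.PdFlat.Basic
import Groth.Agent.EGA43.Cons.FibreCrit
import Mathlib.RingTheory.LocalRing.Module

/-!
# Projective dimension on the fibres

For `B` and `M` flat over `A`, projective dimensions of base changes along `A` are bounded by that
of `M`, and if all fibres have projective dimension `≤ n`, so does `M`.
-/

set_option autoImplicit false
set_option backward.isDefEq.respectTransparency false

universe u

open TensorProduct CategoryTheory Function

namespace Groth.Agent.EGA43.PdFlat

open Groth.Agent

section BaseChange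

variable {A K B C : Type u} [CommRing A] [CommRing K] [CommRing B] [CommRing C] [Algebra A K]
  [Algebra A B] [Algebra K C] [Algebra B C] [Algebra A C] [IsScalarTower A K C]
  [IsScalarTower A B C] [Algebra.IsPushout A K B C]

variable {M P : Type u} [AddCommGroup M] [Module B M] [Module A M] [IsScalarTower A B M]
  [AddCommGroup P] [Module B P] [Module A P] [IsScalarTower A B P]

include K in
theorem injective_baseChange_subtype [Module.Flat A M] (f : P →ₗ[B] M) (hf : Surjective f) :
    Injective ((LinearMap.ker f).subtype.baseChange C) := by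
  let i : LinearMap.ker f →ₗ[A] P := (LinearMap.ker f).subtype.restrictScalars A
  have hinjA : Injective (i.lTensor K) :=
    LinearMap.lTensor_injective_of_exact_of_flat (f.restrictScalars A) hf i
      (Submodule.injective_subtype _) (LinearMap.exact_subtype_ker_map f) K
  let cK := Algebra.IsPushout.cancelBaseChange A K B C (LinearMap.ker f)
  let cV := Algebra.IsPushout.cancelBaseChange A K B C P
  have : ∀ z, (LinearMap.ker f).subtype.baseChange C (cK.symm z) = cV.symm (i.lTensor K z) := by
    intro z
    induction z using TensorProduct.induction_on with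
    | zero => simp
    | add u v hu hv => simp only [map_add, hu, hv]
    | tmul a x => simp [cK, cV, i]
  intro x y hxy
  apply cK.injective
  apply hinjA
  apply cV.symm.injective
  rw [← this, ← this, cK.symm_apply_apply, cK.symm_apply_apply, hxy]

variable (K C) in
include K in
/-- The kernel of a base changed surjection onto a module flat over the base. -/
noncomputable def kerBaseChangeEquiv' [Module.Flat A M] (f : P →ₗ[B] M) (hf : Surjective f) :
    (C ⊗[B] LinearMap.ker f) ≃ₗ[C] LinearMap.ker (f.baseChange C) :=
  LinearEquiv.ofBijective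
    (((LinearMap.ker f).subtype.baseChange C).codRestrict _ fun x => by
      rw [LinearMap.mem_ker]
      have h : (f.baseChange C).comp ((LinearMap.ker f).subtype.baseChange C) = 0 := by
        rw [← LinearMap.baseChange_comp, show f.comp (LinearMap.ker f).subtype = 0 from
          LinearMap.ext fun x => x.2, LinearMap.baseChange_zero]
      exact DFunLike.congr_fun h x)
    ⟨fun x y h => injective_baseChange_subtype (A := A) (K := K) f hf (congrArg Subtype.val h),
      fun ⟨y, hy⟩ => by
        obtain ⟨x, hx⟩ := (lTensor_exact C (LinearMap.exact_subtype_ker_map f) hf y).mp hy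
        exact ⟨x, Subtype.ext hx⟩⟩

variable (K C) in
include K in
theorem pdLE_baseChange' [Module.Flat A B] : ∀ (n : ℕ) {M : Type u} [AddCommGroup M] [Module B M]
    [Module A M] [IsScalarTower A B M] [Module.Flat A M],
    CommAlg6.PdLE B M n → CommAlg6.PdLE C (C ⊗[B] M) n := by
  intro n
  induction n with
  | zero =>
    intro M _ _ _ _ _ h
    haveI := CommAlg6.pdLE_zero_iff.1 h
    exact CommAlg6.pdLE_zero_iff.2 inferInstance
  | succ n ih =>
    intro M _ _ _ _ _ h
    let f : (M →₀ B) →ₗ[B] M := Finsupp.linearCombination B id
    have hf : Surjective f := fun m => ⟨Finsupp.single m 1, by simp [f]⟩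
    have : Module.Flat A (M →₀ B) := Module.Flat.trans A B (M →₀ B)
    have := flat_of_submodule_of_flat_quotient (A := A) f hf
    rw [CommAlg6.pdLE_succ_iff (f.baseChange C) (LinearMap.lTensor_surjective C hf),
      ← CommAlg6.pdLE_congr (kerBaseChangeEquiv' (A := A) K C f hf)]
    exact ih ((CommAlg6.pdLE_succ_iff f hf n).1 h)

end BaseChange

theorem flat_tensor_left {A B L M : Type u} [CommRing A] [CommRing B] [Algebra A B]
    [AddCommGroup L] [Module B L] [Module A L] [IsScalarTower A B L] [AddCommGroup M] [Module B M]
    [Module A M] [IsScalarTower A B M] [Module.Flat B L] [Module.Flat A M] :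
    Module.Flat A (L ⊗[B] M) := by
  rw [Module.Flat.iff_lTensor_preserves_injective_linearMap]
  intro X Y _ _ _ _ i hi
  let eX := AlgebraTensorModule.assoc A B B L M X
  let eY := AlgebraTensorModule.assoc A B B L M Y
  let j : M ⊗[A] X →ₗ[B] M ⊗[A] Y := AlgebraTensorModule.lTensor B M i
  have hj : Injective (j.lTensor L) := Module.Flat.lTensor_preserves_injective_linearMap j
    (Module.Flat.lTensor_preserves_injective_linearMap i hi)
  have : ∀ z, j.lTensor L (eX z) = eY (i.lTensor (L ⊗[B] M) z) := fun z => by
    induction z using TensorProduct.induction_on with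
    | zero => simp
    | add u v hu hv => simp only [map_add, hu, hv]
    | tmul w x =>
      induction w using TensorProduct.induction_on with
      | zero => simp
      | add u v hu hv => simp only [add_tmul, map_add, hu, hv]
      | tmul l m => simp [eX, eY, j]
  intro x y hxy
  apply eX.injective
  apply hj
  rw [this, this, hxy]

section Fibre

variable {A B : Type u} [CommRing A] [CommRing B] [Algebra A B]

variable (A) in
/-- The point of the fibre given by a prime of `B`. -/
noncomputable def toResidueField (q : PrimeSpectrum B) :
    B ⊗[A] (q.asIdeal.comap (algebraMap A B)).ResidueField →ₐ[A] q.asIdeal.ResidueField :=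
  Algebra.TensorProduct.lift (IsScalarTower.toAlgHom A B q.asIdeal.ResidueField)
    (Ideal.ResidueField.mapₐ (q.asIdeal.comap (algebraMap A B)) q.asIdeal (Algebra.ofId A B) rfl)
    fun _ _ => Commute.all _ _

theorem toResidueField_tmul_one (q : PrimeSpectrum B) (b : B) :
    toResidueField A q (b ⊗ₜ 1) = algebraMap B q.asIdeal.ResidueField b := by
  simp [toResidueField]

theorem fibFlat_of_flat_fibre_aux {A K B C M : Type u} [CommRing A] [CommRing K] [CommRing B]
    [CommRing C] [Algebra A K] [Algebra A B] [Algebra K C] [Algebra B C] [Algebra A C]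
    [IsScalarTower A K C] [IsScalarTower A B C] [Algebra.IsPushout A K B C]
    [AddCommGroup M] [Module B M] [Module.Flat C (C ⊗[B] M)] (q' : PrimeSpectrum C) :
    Cons.FibFlat A B B M (PrimeSpectrum.comap (algebraMap B C) q') := by
  refine Cons.FibFlat.of_baseChange (A' := K) (B' := C) (C' := C) (M' := C ⊗[B] M)
    (μ := TensorProduct.mk B C M 1) (TensorProduct.isBaseChange B M C) (fun c m => ?_) ?_
  · rw [map_smul, algebraMap_smul]
  · refine Cons.fibFlat_of_flat ?_
    have : Module.Flat C (Localization q'.asIdeal.primeCompl) :=
      IsLocalization.flat _ q'.asIdeal.primeCompl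
    exact Module.Flat.trans C (Localization q'.asIdeal.primeCompl) _

variable {M : Type u} [AddCommGroup M] [Module B M]

attribute [local instance] Algebra.TensorProduct.rightAlgebra

theorem fibFlat_of_flat_fibres
    (h : ∀ p : PrimeSpectrum A, Module.Flat (B ⊗[A] p.asIdeal.ResidueField)
      ((B ⊗[A] p.asIdeal.ResidueField) ⊗[B] M))
    (q : PrimeSpectrum B) : Cons.FibFlat A B B M q := by
  let p : PrimeSpectrum A := PrimeSpectrum.comap (algebraMap A B) q
  let q' : PrimeSpectrum (B ⊗[A] p.asIdeal.ResidueField) :=
    ⟨RingHom.ker (toResidueField A q), RingHom.ker_isPrime _⟩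
  have hq : PrimeSpectrum.comap (algebraMap B (B ⊗[A] p.asIdeal.ResidueField)) q' = q := by
    ext b
    change toResidueField A q (b ⊗ₜ 1) = 0 ↔ _
    rw [toResidueField_tmul_one, Ideal.algebraMap_residueField_eq_zero]
  rw [← hq]
  have := h p
  exact fibFlat_of_flat_fibre_aux (K := p.asIdeal.ResidueField) q'

theorem subsingleton_of_fibres [Module.Finite B M]
    (h : ∀ p : PrimeSpectrum A, Subsingleton ((B ⊗[A] p.asIdeal.ResidueField) ⊗[B] M)) :
    Subsingleton M := by
  rw [← Module.support_eq_empty_iff (R := B), Set.eq_empty_iff_forall_notMem]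
  intro q hq
  rw [Module.mem_support_iff_nontrivial_residueField_tensorProduct] at hq
  let p : PrimeSpectrum A := PrimeSpectrum.comap (algebraMap A B) q
  let _ : Algebra (B ⊗[A] p.asIdeal.ResidueField) q.asIdeal.ResidueField :=
    (toResidueField A q).toRingHom.toAlgebra
  have : IsScalarTower B (B ⊗[A] p.asIdeal.ResidueField) q.asIdeal.ResidueField :=
    .of_algebraMap_eq fun b => (toResidueField_tmul_one q b).symm
  have := h p
  have : Subsingleton (q.asIdeal.ResidueField ⊗[B] M) :=
    (AlgebraTensorModule.cancelBaseChange B (B ⊗[A] p.asIdeal.ResidueField)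
      q.asIdeal.ResidueField q.asIdeal.ResidueField M).symm.toEquiv.subsingleton
  exact false_of_nontrivial_of_subsingleton (q.asIdeal.ResidueField ⊗[B] M)

variable [Algebra.FinitePresentation A B] [Module.Flat A B]

theorem pdLE_of_fibres : ∀ (n : ℕ) {M : Type u} [AddCommGroup M] [Module B M] [Module A M]
    [IsScalarTower A B M] [Module.FinitePresentation B M] [Module.Flat A M],
    (∀ p : PrimeSpectrum A, CommAlg6.PdLE (B ⊗[A] p.asIdeal.ResidueField)
      ((B ⊗[A] p.asIdeal.ResidueField) ⊗[B] M) n) → CommAlg6.PdLE B M n := by
  intro n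
  induction n with
  | zero =>
    intro M _ _ _ _ _ _ h
    have hq : ∀ q : PrimeSpectrum B, Module.Flat B (LocalizedModule q.asIdeal.primeCompl M) :=
      fun q => by
        refine Cons.flat_of_fibFlat_of_finitePresentation (A := A) q ?_
          (fibFlat_of_flat_fibres (fun p => ?_) q)
        · have : Module.Flat B (Localization q.asIdeal.primeCompl) :=
            IsLocalization.flat _ q.asIdeal.primeCompl
          have : Module.Flat A (Localization q.asIdeal.primeCompl ⊗[B] M) := flat_tensor_left
          exact Module.Flat.of_linearEquiv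
            ((LocalizedModule.equivTensorProduct q.asIdeal.primeCompl M).restrictScalars A)
        · haveI := CommAlg6.pdLE_zero_iff.1 (h p)
          infer_instance
    have : Module.Flat B M := Module.flat_of_localized_maximal M fun P _ => hq ⟨P, inferInstance⟩
    exact CommAlg6.pdLE_zero_iff.2 Module.Flat.projective_of_finitePresentation
  | succ n ih =>
    intro M _ _ _ _ _ _ h
    obtain ⟨k, f, hf, hfp, hflat⟩ := exists_cover (A := A) (B := B) (M := M)
    rw [CommAlg6.pdLE_succ_iff f hf]
    refine ih fun p => ?_
    refine (CommAlg6.pdLE_congr (M := (B ⊗[A] p.asIdeal.ResidueField) ⊗[B] LinearMap.ker f)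
      (N := LinearMap.ker (f.baseChange (B ⊗[A] p.asIdeal.ResidueField)))
      (kerBaseChangeEquiv' (A := A) p.asIdeal.ResidueField
        (B ⊗[A] p.asIdeal.ResidueField) f hf) n).2 ?_
    exact (CommAlg6.pdLE_succ_iff (f.baseChange (B ⊗[A] p.asIdeal.ResidueField))
      (LinearMap.lTensor_surjective _ hf) n).1 (h p)

theorem projectiveDimension_eq_iSup_fibre [Module A M] [IsScalarTower A B M]
    [Module.FinitePresentation B M] [Module.Flat A M] :
    projectiveDimension (ModuleCat.of B M) =
      ⨆ p : PrimeSpectrum A, projectiveDimension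
        (ModuleCat.of (B ⊗[A] p.asIdeal.ResidueField)
          ((B ⊗[A] p.asIdeal.ResidueField) ⊗[B] M)) := by
  refine le_antisymm (CommAlg6.le_of_forall_nat ?_ fun n hn => ?_)
    (iSup_le fun p => CommAlg6.le_of_forall_nat ?_ fun n hn => ?_)
  · simp only [iSup_eq_bot, CommAlg6.projectiveDimension_eq_bot_iff_subsingleton]
    exact subsingleton_of_fibres
  · rw [CommAlg6.projectiveDimension_le_iff_pdLE]
    exact pdLE_of_fibres (A := A) n fun p =>
      (CommAlg6.projectiveDimension_le_iff_pdLE n).1 ((iSup_le_iff.1 hn) p)
  · simp only [CommAlg6.projectiveDimension_eq_bot_iff_subsingleton]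
    intro h
    infer_instance
  · rw [CommAlg6.projectiveDimension_le_iff_pdLE] at hn ⊢
    exact pdLE_baseChange' (A := A) p.asIdeal.ResidueField _ n hn

end Fibre

end Groth.Agent.EGA43.PdFlat
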