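import Groth.Agent.EGA43.PdFlat.Basic
import Mathlib.CategoryTheory.Abelian.Projective.Resolution
import Mathlib.Algebra.Homology.ShortComplex.ModuleCat

/-!
# Resolutions by finite free modules
-/

set_option autoImplicit false
set_option backward.isDefEq.respectTransparency false

universe u

open CategoryTheory CategoryTheory.Limits Function

namespace Groth.Agent.EGA43.PdFlat

variable {A B M : Type u} [CommRing A] [CommRing B] [Algebra A B] [AddCommGroup M] [Module B M]
  [Module A M] [IsScalarTower A B M]

variable (A) in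
/-- A finitely presented submodule of a free module, flat over `A`. -/
def Good {m : ℕ} (K : Submodule B (Fin m → B)) : Prop :=
  Module.FinitePresentation B K ∧ Module.Flat A K

theorem exists_next [Algebra.FinitePresentation A B] [Module.Flat A B] {m : ℕ}
    {K : Submodule B (Fin m → B)} (h : Good A K) :
    ∃ (k : ℕ) (f : (Fin k → B) →ₗ[B] (Fin m → B)), LinearMap.range f = K ∧
      Good A (LinearMap.ker f) := by
  obtain ⟨hfp, hflat⟩ := h
  obtain ⟨k, f, hf, h1, h2⟩ := exists_cover (A := A) (B := B) (M := K)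
  refine ⟨k, K.subtype ∘ₗ f, ?_, ?_⟩
  · rw [LinearMap.range_comp_of_range_eq_top _ (LinearMap.range_eq_top.2 hf),
      Submodule.range_subtype]
  · rw [Good, LinearMap.ker_comp_of_ker_eq_bot f K.ker_subtype]
    exact ⟨h1, h2⟩

theorem exists_free_resolution [Algebra.FinitePresentation A B] [Module.Flat A B]
    [Module.FinitePresentation B M] [Module.Flat A M] :
    ∃ P : ProjectiveResolution (ModuleCat.of B M),
      ∀ n : ℕ, Module.Finite B (P.complex.X n) ∧ Module.Free B (P.complex.X n) := by
  obtain ⟨k₀, q, hq, hq1, hq2⟩ := exists_cover (A := A) (B := B) (M := M)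
  choose! k f hf hgood using fun (m : ℕ) (K : Submodule B (Fin m → B)) (h : Good A K) =>
    exists_next (A := A) h
  let S := Σ m : ℕ, {K : Submodule B (Fin m → B) // Good A K}
  let next : S → S := fun s =>
    ⟨k s.1 s.2.1, ⟨LinearMap.ker (f s.1 s.2.1), hgood _ _ s.2.2⟩⟩
  let st : ℕ → S := fun n => Nat.rec ⟨k₀, ⟨LinearMap.ker q, hq1, hq2⟩⟩ (fun _ s => next s) n
  let X : ℕ → ModuleCat.{u} B := fun n => ModuleCat.of B (Fin (st n).1 → B)
  let dd : ∀ n, (Fin (st (n + 1)).1 → B) →ₗ[B] (Fin (st n).1 → B) := fun n => f (st n).1 (st n).2.1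
  have hex : ∀ n, LinearMap.range (dd n) = (st n).2.1 := fun n => hf _ _ (st n).2.2
  have hker : ∀ n, (st (n + 1)).2.1 = LinearMap.ker (dd n) := fun n => rfl
  have hsq : ∀ n, (ModuleCat.ofHom (dd (n + 1)) : X (n + 2) ⟶ X (n + 1)) ≫
      (ModuleCat.ofHom (dd n) : X (n + 1) ⟶ X n) = 0 := fun n => by
    refine ModuleCat.hom_ext (LinearMap.ext fun x => ?_)
    exact ((hex (n + 1)).trans (hker n)).le (LinearMap.mem_range_self (dd (n + 1)) x)
  let C : ChainComplex (ModuleCat.{u} B) ℕ := ChainComplex.of X (fun n => ModuleCat.ofHom (dd n)) hsq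
  have hd : ∀ n, C.d (n + 1) n = ModuleCat.ofHom (dd n) := fun n =>
    ChainComplex.of_d X (fun n => ModuleCat.ofHom (dd n)) n
  have hproj : ∀ n, Projective (C.X n) := fun n =>
    (IsProjective.iff_projective (R := B) (Fin (st n).1 → B)).1 inferInstance
  have hq0 : LinearMap.range (dd 0) = LinearMap.ker q := hex 0
  let π : C ⟶ (ChainComplex.single₀ (ModuleCat.{u} B)).obj (ModuleCat.of B M) :=
    (ChainComplex.toSingle₀Equiv _ _).symm ⟨ModuleCat.ofHom q, by
      rw [hd 0]
      refine ModuleCat.hom_ext (LinearMap.ext fun x => ?_)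
      exact hq0.le (LinearMap.mem_range_self (dd 0) x)⟩
  have hπ : π.f 0 = ModuleCat.ofHom q := ChainComplex.toSingle₀Equiv_symm_apply_f_zero _ _
  refine ⟨{
    complex := C
    projective := hproj
    π := π
    quasiIso := ⟨fun n => ?_⟩ }, fun n => ⟨?_, ?_⟩⟩
  · cases n with
    | zero =>
      rw [ChainComplex.quasiIsoAt₀_iff, ShortComplex.quasiIso_iff_of_zeros']
      · skip
        refine (ShortComplex.exact_and_epi_g_iff_of_iso
          (S₂ := ShortComplex.mk (C.d 1 0) (π.f 0) (by
            rw [hπ, hd 0]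
            exact ModuleCat.hom_ext (LinearMap.ext fun x =>
              hq0.le (LinearMap.mem_range_self (dd 0) x)))) ?_).2 ⟨?_, ?_⟩
        · exact ShortComplex.isoMk (Iso.refl _) (Iso.refl _) (Iso.refl _) (by simp) (by simp)
        · rw [ShortComplex.moduleCat_exact_iff_range_eq_ker]
          simp only [hπ, hd 0]
          exact hq0
        · simp only [hπ]
          exact (ModuleCat.epi_iff_surjective _).2 hq
      all_goals rfl
    | succ n =>
      rw [quasiIsoAt_iff_exactAt']
      · rw [HomologicalComplex.exactAt_iff' _ (n + 2) (n + 1) n (by simp) (by simp),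
          ShortComplex.moduleCat_exact_iff_range_eq_ker]
        simp only [HomologicalComplex.sc', HomologicalComplex.shortComplexFunctor']
        rw [hd (n + 1), hd n]
        exact (hex (n + 1)).trans (hker n)
      · exact ChainComplex.exactAt_succ_single_obj _ _
  · exact inferInstanceAs (Module.Finite B (Fin (st n).1 → B))
  · exact inferInstanceAs (Module.Free B (Fin (st n).1 → B))

end Groth.Agent.EGA43.PdFlat
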